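import Cfsg.Agent.Omega.NO3S.ThmB.End.Idx
import Cfsg.Agent.Mrg.Omega.VP
import Mathlib
import Cfsg.Agent.PermutationGroups.SylowTransitive
import Cfsg.Agent.Mrg.Omega.NO3S.ThmB.Best
import Cfsg.Agent.Mrg.Omega.NO3S.ThmB.Torus

section


/-!
# THEOREM B, end, (L3): subgroups of 2-power index, natural case

`W / D` natural for `SL₂(F)^k`, `P = S H`, `S` Sylow in `P`: if `SL₂(F)` has no proper subgroup of 2-power index,
then `H` induces all of `SL₂(F)` on every summand, and `S ∩ H` all upper unitriangular matrices.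
-/

set_option autoImplicit false

namespace Cfsg.Agent.Omega.NO3S.ThmB.End.NatIdx

open Subgroup Cfsg Cfsg.Agent.ZN Cfsg.Agent.ZN.ChoiceBase Cfsg.Agent.ZN.ChoiceSit
open Cfsg.Agent.Omega.FFThm Cfsg.Agent.Omega.NO3S.ThmB.End.Idx
open Cfsg.Agent.Omega.NatPair (ap ap_mul ap_one ap_inv_ap ap_ap_inv ap_inj)
open Cfsg.Agent.Lib.SL2Mat

universe u

variable {G : Type u} [Group G] {F : Type} [Field F] {S P W D : Subgroup G} {k : ℕ}

section acts

variable {e : G → Fin k → Fin 2 → F}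

theorem acts_mul (hW : P ≤ normalizer (W : Set G)) {g g' : G} (hg' : g' ∈ P)
    {A B : Fin k → Matrix.SpecialLinearGroup (Fin 2) F} (hA : ActsSL e W D g A) (hB : ActsSL e W D g' B) :
    ActsSL e W D (g * g') (A * B) := by
  refine ⟨fun v hv i => ?_, fun d hd => ?_⟩
  · have h1 : g * g' * v * (g * g')⁻¹ = g * (g' * v * g'⁻¹) * g⁻¹ := by group
    have h2 : g' * v * g'⁻¹ ∈ W := (mem_normalizer_iff.1 (hW hg') v).1 hv
    rw [h1, hA.1 _ h2, hB.1 _ hv, Pi.mul_apply, ap_mul]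
  · rw [mul_assoc, hB.2 d hd, ← mul_assoc, hA.2 d hd, mul_assoc]

theorem acts_one : ActsSL e W D 1 1 := by
  refine ⟨fun v _ i => ?_, fun d _ => by rw [one_mul, mul_one]⟩
  rw [one_mul, inv_one, mul_one, Pi.one_apply, ap_one]

theorem acts_inv (hW : P ≤ normalizer (W : Set G)) {g : G} (hg : g ∈ P)
    {A : Fin k → Matrix.SpecialLinearGroup (Fin 2) F} (hA : ActsSL e W D g A) : ActsSL e W D g⁻¹ A⁻¹ := by
  refine ⟨fun v hv i => ?_, fun d hd => ?_⟩
  · have h2 : g⁻¹ * v * g⁻¹⁻¹ ∈ W := (mem_normalizer_iff.1 (hW (inv_mem hg)) v).1 hv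
    have h3 := hA.1 _ h2 i
    have h4 : g * (g⁻¹ * v * g⁻¹⁻¹) * g⁻¹ = v := by group
    rw [h4] at h3
    rw [h3, Pi.inv_apply, ap_inv_ap]
  · have h3 := hA.2 d hd
    have h4 := congrArg (fun t => g⁻¹ * t * g⁻¹) h3
    simpa [mul_assoc] using h4.symm

end acts

variable (h : NatK F S P W D k)

include h

theorem acts_uniq {g : G} {A B : Fin k → Matrix.SpecialLinearGroup (Fin 2) F} (hA : ActsSL h.e W D g A)
    (hB : ActsSL h.e W D g B) : A = B := by
  funext i
  refine ap_inj fun x => ?_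
  obtain ⟨v, hv, e⟩ := h.surj fun _ => x
  have h1 := hA.1 v hv i
  rw [hB.1 v hv i, e] at h1
  exact h1.symm

/-- the subgroup of the elements which act as elements of `SL₂(F)^k` -/
def E (hW : P ≤ normalizer (W : Set G)) : Subgroup G where
  carrier := {g | g ∈ P ∧ ∃ A, ActsSL h.e W D g A}
  mul_mem' := by
    rintro a b ⟨ha, A, hA⟩ ⟨hb, B, hB⟩
    exact ⟨mul_mem ha hb, _, acts_mul hW hb hA hB⟩
  one_mem' := ⟨one_mem _, _, acts_one⟩
  inv_mem' := by
    rintro a ⟨ha, A, hA⟩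
    exact ⟨inv_mem ha, _, acts_inv hW ha hA⟩

/-- the graph of the action on the `i`-th summand -/
def R (hW : P ≤ normalizer (W : Set G)) (i : Fin k) : Subgroup (G × Matrix.SpecialLinearGroup (Fin 2) F) where
  carrier := {p | p.1 ∈ P ∧ ActsSL h.e W D p.1 (Pi.mulSingle i p.2)}
  mul_mem' := by
    rintro ⟨a, A⟩ ⟨b, B⟩ ⟨ha, hA⟩ ⟨hb, hB⟩
    refine ⟨mul_mem ha hb, ?_⟩
    have h1 := acts_mul hW hb hA hB
    rwa [← Pi.mulSingle_mul] at h1
  one_mem' := ⟨one_mem _, by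
    have h1 : (Pi.mulSingle i (1 : Matrix.SpecialLinearGroup (Fin 2) F) : Fin k → _) = 1 := Pi.mulSingle_one i
    change ActsSL h.e W D 1 (Pi.mulSingle i (1 : Matrix.SpecialLinearGroup (Fin 2) F))
    rw [h1]
    exact acts_one⟩
  inv_mem' := by
    rintro ⟨a, A⟩ ⟨ha, hA⟩
    refine ⟨inv_mem ha, ?_⟩
    have h1 := acts_inv hW ha hA
    rwa [← Pi.mulSingle_inv] at h1

theorem mem_R {hW : P ≤ normalizer (W : Set G)} {i : Fin k} {g : G} {A : Matrix.SpecialLinearGroup (Fin 2) F} :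
    (g, A) ∈ R h hW i ↔ g ∈ P ∧ ActsSL h.e W D g (Pi.mulSingle i A) := Iff.rfl

theorem P_le_normalizer_E [Finite G] (hW : P ≤ normalizer (W : Set G)) (hD : P ≤ normalizer (D : Set G)) :
    P ≤ normalizer (E h hW : Set G) := by
  intro g hg
  refine mem_normalizer_of_cj_le ?_
  rintro _ ⟨x, ⟨hx, A, hA⟩, rfl⟩
  change g * x * g⁻¹ ∈ E h hW
  refine ⟨mul_mem (mul_mem hg hx) (inv_mem hg), ?_⟩
  obtain ⟨B, hB⟩ := h.norm g hg x hx A hA.1
  refine ⟨B, hB, fun d hd => ?_⟩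
  have h1 : g⁻¹ * d * g ∈ D := by
    have := (mem_normalizer_iff.1 (hD (inv_mem hg)) d).1 hd
    rwa [inv_inv] at this
  have h2 := congrArg (fun t => g * t * g⁻¹) (hA.2 _ h1)
  simpa [mul_assoc] using h2

theorem E_le_normalizer_dom [Finite G] (hW : P ≤ normalizer (W : Set G)) (i : Fin k) :
    E h hW ≤ normalizer (dom (R h hW i) : Set G) := by
  rintro g ⟨hg, A, hA⟩
  refine mem_normalizer_of_cj_le ?_
  rintro _ ⟨x, hx, rfl⟩
  obtain ⟨C, hx, hC⟩ := mem_dom.1 hx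
  change g * x * g⁻¹ ∈ dom (R h hW i)
  refine mem_dom.2 ⟨A i * C * (A i)⁻¹, mul_mem (mul_mem hg hx) (inv_mem hg), ?_⟩
  have h1 := acts_mul hW (inv_mem hg) (acts_mul hW hx hA hC) (acts_inv hW hg hA)
  have h2 : A * Pi.mulSingle i C * A⁻¹ = Pi.mulSingle i (A i * C * (A i)⁻¹) := by
    funext j
    by_cases hj : j = i
    · subst hj
      simp
    · simp [Pi.mulSingle_eq_of_ne hj]
  rwa [h2] at h1

/-- **(L3).** -/
theorem main [Finite G] [Finite F] (hW : P ≤ normalizer (W : Set G)) (hD : P ≤ normalizer (D : Set G))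
    (hS : Syl S P) {H : Subgroup G} (hH : H ≤ P) (hSH : ∀ g ∈ P, ∃ s ∈ S, ∃ x ∈ H, g = s * x)
    (hL : ∀ (K : Subgroup (Matrix.SpecialLinearGroup (Fin 2) F)) (t : ℕ), K.index = 2 ^ t → K = ⊤) (i : Fin k) :
    (∀ A, ∃ x ∈ H, ActsSL h.e W D x (Pi.mulSingle i A)) ∧
      ∀ b : F, ∃ s ∈ S, s ∈ H ∧ ActsSL h.e W D s (Pi.mulSingle i (up b)) := by
  have hR : ∀ A : Matrix.SpecialLinearGroup (Fin 2) F, ∃ g : G, (g, A) ∈ R h hW i := fun A => by
    obtain ⟨g, hg, hA⟩ := h.lift (Pi.mulSingle i A)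
    exact ⟨g, hg, hA⟩
  have hf : ∀ A : Matrix.SpecialLinearGroup (Fin 2) F, (1, A) ∈ R h hW i → A = 1 := fun A hA => by
    have h1 := acts_uniq h hA.2 acts_one
    have h2 := congrFun h1 i
    rwa [Pi.mulSingle_eq_same, Pi.one_apply] at h2
  have hRE : dom (R h hW i) ≤ E h hW := fun g hg => by
    obtain ⟨A, hg, hA⟩ := mem_dom.1 hg
    exact ⟨hg, _, hA⟩
  obtain ⟨⟨t, ht⟩, hSyl⟩ := Idx.main hS hH hSH (E := E h hW) (fun g hg => hg.1) (P_le_normalizer_E h hW hD) hR hf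
    hRE (E_le_normalizer_dom h hW i)
  have htop := hL _ t ht
  rw [htop] at hSyl
  constructor
  · intro A
    have hA : A ∈ im (R h hW i) H := htop ▸ mem_top A
    obtain ⟨x, hx, h1⟩ := mem_im.1 hA
    exact ⟨x, hx, h1.2⟩
  · have h1 : im (R h hW i) S = im (R h hW i) (S ⊓ H) :=
      hSyl.2.2 _ le_top (im_isPGroup hf hS.2.1) (im_mono inf_le_left)
    intro b
    obtain ⟨s, hs, h2⟩ := h.unip (Pi.single i b)
    have h3 : (fun j => up ((Pi.single i b : Fin k → F) j)) = Pi.mulSingle i (up b) := by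
      funext j
      by_cases hj : j = i
      · subst hj
        rw [Pi.single_eq_same, Pi.mulSingle_eq_same]
      · rw [Pi.single_eq_of_ne hj, Pi.mulSingle_eq_of_ne hj, up_zero]
    rw [h3] at h2
    have h4 : up b ∈ im (R h hW i) S := ⟨s, hs, hS.1 hs, h2⟩
    rw [h1] at h4
    obtain ⟨s', hs', h5⟩ := mem_im.1 h4
    exact ⟨s', hs'.1, hs'.2, h5.2⟩

end Cfsg.Agent.Omega.NO3S.ThmB.End.NatIdx

end

section


/-!
`SL(2,F)`, `F` a finite field of characteristic two with at least four elements, has no proper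
subgroup of `2`-power index.
-/

set_option autoImplicit false

namespace Cfsg.Agent.Omega.NO3S.ThmB.End.SLIdx

open Matrix

variable {F : Type*} [Field F]

local notation:1024 "↑ₘ" A:1024 =>
  ((A : Matrix.SpecialLinearGroup (Fin 2) F) : Matrix (Fin 2) (Fin 2) F)

/-- Upper unipotent matrices. -/
def up (c : F) : Matrix.SpecialLinearGroup (Fin 2) F := ⟨!![1, c; 0, 1], by simp [det_fin_two_of]⟩

/-- Lower unipotent matrices. -/
def low (c : F) : Matrix.SpecialLinearGroup (Fin 2) F := ⟨!![1, 0; c, 1], by simp [det_fin_two_of]⟩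

theorem up_val (c : F) : ↑ₘ(up c) = !![1, c; 0, 1] := rfl

theorem low_val (c : F) : ↑ₘ(low c) = !![1, 0; c, 1] := rfl

theorem det_eq (g : Matrix.SpecialLinearGroup (Fin 2) F) : ↑ₘg 0 0 * ↑ₘg 1 1 - ↑ₘg 0 1 * ↑ₘg 1 0 = 1 := by
  rw [← det_fin_two]
  exact g.2

theorem ext_iff' {g h : Matrix.SpecialLinearGroup (Fin 2) F} :
    g = h ↔ ↑ₘg 0 0 = ↑ₘh 0 0 ∧ ↑ₘg 0 1 = ↑ₘh 0 1 ∧ ↑ₘg 1 0 = ↑ₘh 1 0 ∧ ↑ₘg 1 1 = ↑ₘh 1 1 := by
  constructor
  · rintro rfl
    exact ⟨rfl, rfl, rfl, rfl⟩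
  · rintro ⟨h1, h2, h3, h4⟩
    ext i j
    fin_cases i <;> fin_cases j
    · exact h1
    · exact h2
    · exact h3
    · exact h4

/-- A subgroup containing all upper and all lower unipotent matrices is everything. -/
theorem eq_top_of (H : Subgroup (Matrix.SpecialLinearGroup (Fin 2) F)) (h1 : ∀ c : F, up c ∈ H)
    (h2 : ∀ c : F, low c ∈ H) : H = ⊤ := by
  have key : ∀ g : Matrix.SpecialLinearGroup (Fin 2) F, ↑ₘg 1 0 ≠ 0 → g ∈ H := by
    intro g hg
    have h3 : g = up ((↑ₘg 0 0 - 1) / ↑ₘg 1 0) * low (↑ₘg 1 0) * up ((↑ₘg 1 1 - 1) / ↑ₘg 1 0) := by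
      have hd := det_eq g
      rw [ext_iff']
      simp only [up_val, low_val, Matrix.SpecialLinearGroup.coe_mul, Matrix.mul_apply, Fin.sum_univ_two, of_apply,
        cons_val', cons_val_zero, cons_val_one, cons_val_fin_one]
      refine ⟨?_, ?_, ?_, ?_⟩
      · field_simp
        ring
      · field_simp
        linear_combination (-1 : F) * hd
      · ring
      · field_simp
        ring
    rw [h3]
    exact H.mul_mem (H.mul_mem (h1 _) (h2 _)) (h1 _)
  rw [eq_top_iff]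
  rintro g -
  by_cases hg : ↑ₘg 1 0 = 0
  · have h3 : low 1 * g ∈ H := by
      refine key _ ?_
      have hd := det_eq g
      rw [hg, mul_zero, sub_zero] at hd
      simp only [low_val, Matrix.SpecialLinearGroup.coe_mul, Matrix.mul_apply, Fin.sum_univ_two, of_apply,
        cons_val', cons_val_zero, cons_val_one, cons_val_fin_one, hg]
      intro h
      have h5 : ↑ₘg 0 0 = 0 := by simpa using h
      rw [h5, zero_mul] at hd
      exact zero_ne_one hd
    have h4 := H.mul_mem (H.inv_mem (h2 1)) h3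
    rwa [inv_mul_cancel_left] at h4
  · exact key g hg

/-- The natural action. -/
@[reducible] def act : MulAction (Matrix.SpecialLinearGroup (Fin 2) F) (Fin 2 → F) where
  smul g v := ↑ₘg *ᵥ v
  one_smul v := by
    change (1 : Matrix (Fin 2) (Fin 2) F) *ᵥ v = v
    exact one_mulVec v
  mul_smul g h v := by
    change (↑ₘg * ↑ₘh) *ᵥ v = ↑ₘg *ᵥ (↑ₘh *ᵥ v)
    rw [mulVec_mulVec]

/-- The first basis vector. -/
def e1 : Fin 2 → F := ![1, 0]

theorem mulVec_e1 (g : Matrix.SpecialLinearGroup (Fin 2) F) : ↑ₘg *ᵥ e1 = ![↑ₘg 0 0, ↑ₘg 1 0] := by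
  ext i
  fin_cases i <;> simp [e1, mulVec, dotProduct, Fin.sum_univ_two]

theorem exists_map_e1 {v : Fin 2 → F} (hv : v ≠ 0) :
    ∃ g : Matrix.SpecialLinearGroup (Fin 2) F, ↑ₘg *ᵥ e1 = v := by
  by_cases h0 : v 0 = 0
  · have h1 : v 1 ≠ 0 := by
      intro h1
      apply hv
      ext i
      fin_cases i
      · exact h0
      · exact h1
    refine ⟨⟨!![0, -(v 1)⁻¹; v 1, 0], ?_⟩, (mulVec_e1 _).trans ?_⟩
    · rw [det_fin_two_of]
      field_simp
      ring
    · ext i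
      fin_cases i
      · exact h0.symm
      · rfl
  · refine ⟨⟨!![v 0, 0; v 1, (v 0)⁻¹], ?_⟩, (mulVec_e1 _).trans ?_⟩
    · rw [det_fin_two_of, zero_mul, sub_zero, mul_inv_cancel₀ h0]
    · ext i
      fin_cases i
      · rfl
      · rfl

theorem mulVec_ne_zero (g : Matrix.SpecialLinearGroup (Fin 2) F) {v : Fin 2 → F} (hv : v ≠ 0) :
    ↑ₘg *ᵥ v ≠ 0 := by
  intro h
  apply hv
  have h1 : ↑ₘ(g⁻¹) *ᵥ (↑ₘg *ᵥ v) = v := by
    rw [mulVec_mulVec, ← Matrix.SpecialLinearGroup.coe_mul, inv_mul_cancel]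
    exact one_mulVec v
  rw [← h1, h, mulVec_zero]

/-- The order of a finite field of characteristic two is even. -/
theorem two_dvd_card [Finite F] [CharP F 2] : 2 ∣ Nat.card F := by
  have h1 : addOrderOf (1 : F) = 2 :=
    addOrderOf_eq_prime (by rw [two_nsmul]; exact CharTwo.add_self_eq_zero 1) one_ne_zero
  rw [← h1]
  exact addOrderOf_dvd_natCard 1

/-- A subgroup of `2`-power index is transitive on the nonzero vectors. -/
theorem exists_mem [Finite F] [CharP F 2] {t : ℕ} (H : Subgroup (Matrix.SpecialLinearGroup (Fin 2) F))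
    (hH : H.index = 2 ^ t) {v : Fin 2 → F} (hv : v ≠ 0) : ∃ h ∈ H, ↑ₘh *ᵥ e1 = v := by
  let _ := act (F := F)
  have he : (e1 : Fin 2 → F) ≠ 0 := fun h => one_ne_zero (congrFun h 0)
  have horb : MulAction.orbit (Matrix.SpecialLinearGroup (Fin 2) F) (e1 : Fin 2 → F) = {0}ᶜ := by
    ext w
    rw [Set.mem_compl_singleton_iff]
    constructor
    · rintro ⟨g, rfl⟩
      exact mulVec_ne_zero g he
    · intro hw
      obtain ⟨g, hg⟩ := exists_map_e1 hw
      exact ⟨g, hg⟩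
  have hcard : (Nat.card (MulAction.orbit (Matrix.SpecialLinearGroup (Fin 2) F) (e1 : Fin 2 → F)))
      + 1 = Nat.card F ^ 2 := by
    rw [Nat.card_coe_set_eq, horb]
    have h1 := Set.ncard_add_ncard_compl ({0} : Set (Fin 2 → F))
    rw [Set.ncard_singleton, Nat.card_fun, Nat.card_eq_fintype_card (α := Fin 2),
      Fintype.card_fin] at h1
    omega
  have hodd : Odd (Nat.card (MulAction.orbit (Matrix.SpecialLinearGroup (Fin 2) F) (e1 : Fin 2 → F))) := by
    obtain ⟨k, hk⟩ := two_dvd_card (F := F)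
    rw [hk] at hcard
    rw [← Nat.not_even_iff_odd]
    rintro ⟨j, hj⟩
    have h2 : (2 * k) ^ 2 = 2 * (2 * k ^ 2) := by ring
    omega
  have htr := PermutationGroups.SylowTransitive.isPretransitive_of_coprime_index
    (Ω := MulAction.orbit (Matrix.SpecialLinearGroup (Fin 2) F) (e1 : Fin 2 → F)) H (by
      rw [hH]
      exact Nat.Coprime.pow_right t (Nat.coprime_two_right.2 hodd))
  obtain ⟨h, hh⟩ := htr.exists_smul_eq
    ⟨e1, MulAction.mem_orbit_self e1⟩ ⟨v, by rw [horb]; exact hv⟩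
  exact ⟨h.1, h.2, congrArg Subtype.val hh⟩

/-- An involution in characteristic two fixes a nonzero vector. -/
theorem exists_fixed [CharP F 2] (z : Matrix.SpecialLinearGroup (Fin 2) F) (hz : z * z = 1) :
    ∃ v : Fin 2 → F, v ≠ 0 ∧ ↑ₘz *ᵥ v = v := by
  have h1 : (↑ₘz - 1) * (↑ₘz - 1) = 0 := by
    have h2 : ↑ₘz * ↑ₘz = 1 := by
      rw [← Matrix.SpecialLinearGroup.coe_mul, hz]
      rfl
    calc (↑ₘz - 1) * (↑ₘz - 1) = ↑ₘz * ↑ₘz - ↑ₘz - (↑ₘz - 1) := by
          rw [sub_mul, mul_sub, mul_one, one_mul]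
      _ = (1 + 1) - (↑ₘz + ↑ₘz) := by rw [h2]; abel
      _ = 0 := by rw [CharTwo.add_self_eq_zero, CharTwo.add_self_eq_zero, sub_zero]
  have h2 : (↑ₘz - 1).det = 0 := by
    have := congrArg det h1
    rw [det_mul, det_zero] at this
    exact mul_self_eq_zero.1 this
  obtain ⟨v, hv, hv2⟩ := exists_mulVec_eq_zero_iff.2 h2
  refine ⟨v, hv, ?_⟩
  rw [sub_mulVec, one_mulVec] at hv2
  exact sub_eq_zero.1 hv2

/-- **No proper subgroups of `2`-power index.** -/
theorem eq_top [Finite F] [CharP F 2] (h4 : 4 ≤ Nat.card F) {t : ℕ}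
    (H : Subgroup (Matrix.SpecialLinearGroup (Fin 2) F)) (hH : H.index = 2 ^ t) : H = ⊤ := by
  have he : (e1 : Fin 2 → F) ≠ 0 := fun h => one_ne_zero (congrFun h 0)
  by_cases hf : ∀ x ∈ H, ∀ v : Fin 2 → F, v ≠ 0 → ↑ₘx *ᵥ v = v → x = 1
  · exfalso
    have hinv : ∀ z ∈ H, z * z = 1 → z = 1 := by
      intro z hz hzz
      obtain ⟨v, hv, hv2⟩ := exists_fixed z hzz
      exact hf z hz v hv hv2
    obtain ⟨l, hl0, hl1⟩ : ∃ l : F, l ≠ 0 ∧ l ≠ 1 := by
      by_contra hcon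
      push Not at hcon
      have h5 : (Set.univ : Set F) ⊆ {0, 1} := by
        intro x _
        by_cases hx : x = 0
        · exact Or.inl hx
        · exact Or.inr (hcon x hx)
      have h6 := Set.ncard_le_ncard h5 (Set.toFinite _)
      rw [Set.ncard_univ] at h6
      have h7 : ({0, 1} : Set F).ncard ≤ 2 := by
        refine (Set.ncard_insert_le _ _).trans ?_
        rw [Set.ncard_singleton]
      omega
    obtain ⟨a, haH, ha⟩ := exists_mem H hH (v := ![l, 0]) (fun h => hl0 (congrFun h 0))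
    rw [mulVec_e1] at ha
    have ha00 : ↑ₘa 0 0 = l := congrFun ha 0
    have ha10 : ↑ₘa 1 0 = 0 := congrFun ha 1
    have hd := det_eq a
    rw [ha00, ha10, mul_zero, sub_zero] at hd
    have ha11 : ↑ₘa 1 1 = l⁻¹ := by
      field_simp
      linear_combination hd
    have hll : l⁻¹ - l ≠ 0 := by
      intro h
      have h5 : l * l = 1 := by
        have h6 : l⁻¹ = l := sub_eq_zero.1 h
        calc l * l = l * l⁻¹ := by rw [h6]
          _ = 1 := mul_inv_cancel₀ hl0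
      rcases mul_self_eq_one_iff.1 h5 with h6 | h6
      · exact hl1 h6
      · rw [CharTwo.neg_eq] at h6
        exact hl1 h6
    have hv'0 : (![↑ₘa 0 1, l⁻¹ - l] : Fin 2 → F) ≠ 0 := fun h => hll (congrFun h 1)
    obtain ⟨h, hhH, hh⟩ := exists_mem H hH hv'0
    have hav : ↑ₘa *ᵥ ![↑ₘa 0 1, l⁻¹ - l] = l⁻¹ • ![↑ₘa 0 1, l⁻¹ - l] := by
      ext i
      fin_cases i
      · simp only [mulVec, dotProduct, Fin.sum_univ_two, Pi.smul_apply, smul_eq_mul,
          cons_val_zero, cons_val_one, Fin.zero_eta, ha00]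
        ring
      · simp only [mulVec, dotProduct, Fin.sum_univ_two, Pi.smul_apply, smul_eq_mul,
          cons_val_zero, cons_val_one, Fin.mk_one, ha10, ha11]
        ring
    have h1 : a * (h⁻¹ * a * h) = 1 := by
      refine hf _ (H.mul_mem haH (H.mul_mem (H.mul_mem (H.inv_mem hhH) haH) hhH)) e1 he ?_
      have h5 : ↑ₘ(h⁻¹) *ᵥ (![↑ₘa 0 1, l⁻¹ - l] : Fin 2 → F) = e1 := by
        rw [← hh, mulVec_mulVec, ← Matrix.SpecialLinearGroup.coe_mul, inv_mul_cancel]
        exact one_mulVec _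
      have h6 : ↑ₘa *ᵥ (e1 : Fin 2 → F) = l • e1 := by
        rw [mulVec_e1, ha00, ha10]
        ext i
        fin_cases i
        · simp [e1]
        · simp [e1]
      calc ↑ₘ(a * (h⁻¹ * a * h)) *ᵥ (e1 : Fin 2 → F)
          = ↑ₘa *ᵥ (↑ₘ(h⁻¹) *ᵥ (↑ₘa *ᵥ (↑ₘh *ᵥ e1))) := by
            simp only [mulVec_mulVec, Matrix.SpecialLinearGroup.coe_mul, mul_assoc]
        _ = ↑ₘa *ᵥ (↑ₘ(h⁻¹) *ᵥ (l⁻¹ • ![↑ₘa 0 1, l⁻¹ - l])) := by rw [hh, hav]
        _ = ↑ₘa *ᵥ (l⁻¹ • e1) := by rw [mulVec_smul, h5]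
        _ = l⁻¹ • (l • e1) := by rw [mulVec_smul, h6]
        _ = e1 := by rw [smul_smul, inv_mul_cancel₀ hl0, one_smul]
    have h2 : h⁻¹ * a * h = a⁻¹ := (inv_eq_of_mul_eq_one_right h1).symm
    have h3 : Commute (h ^ 2) a := by
      have h5 : h⁻¹ * (h⁻¹ * a * h) * h = a := by
        rw [h2]
        calc h⁻¹ * a⁻¹ * h = (h⁻¹ * a * h)⁻¹ := by group
          _ = a := by rw [h2, inv_inv]
      have h6 : h * h * a = a * (h * h) := by
        calc h * h * a = h * h * (h⁻¹ * (h⁻¹ * a * h) * h) := by rw [h5]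
          _ = a * (h * h) := by group
      rw [pow_two]
      exact h6
    have hodd : Odd (orderOf h) := by
      rw [← Nat.not_even_iff_odd]
      rintro ⟨k, hk⟩
      have hpos := orderOf_pos h
      have h5 : h ^ k = 1 := by
        refine hinv _ (H.pow_mem hhH k) ?_
        rw [← pow_add, ← hk, pow_orderOf_eq_one]
      have h6 := orderOf_dvd_of_pow_eq_one h5
      have h7 := Nat.le_of_dvd (by omega) h6
      omega
    have h5 : Commute h a := by
      obtain ⟨k, hk⟩ := hodd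
      have h6 : (h ^ 2) ^ (k + 1) = h := by
        rw [← pow_mul, show 2 * (k + 1) = orderOf h + 1 by omega, pow_succ, pow_orderOf_eq_one,
          one_mul]
      rw [← h6]
      exact h3.pow_left _
    have h6 : a * a = 1 := by
      have h7 : h⁻¹ * a * h = a := by
        rw [mul_assoc, ← h5.eq, inv_mul_cancel_left]
      rw [h7] at h2
      calc a * a = a * a⁻¹ := by rw [← h2]
        _ = 1 := mul_inv_cancel a
    have h7 := hinv a haH h6
    rw [h7] at ha00
    exact hl1 (by rw [← ha00]; rfl)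
  · push Not at hf
    obtain ⟨x, hxH, v, hv, hxv, hx1⟩ := hf
    obtain ⟨g, hgH, hg⟩ := exists_mem H hH hv
    have huH : g⁻¹ * x * g ∈ H := H.mul_mem (H.mul_mem (H.inv_mem hgH) hxH) hgH
    have hu1 : g⁻¹ * x * g ≠ 1 := by
      intro h
      apply hx1
      calc x = g * (g⁻¹ * x * g) * g⁻¹ := by group
        _ = 1 := by rw [h]; group
    have hue : ↑ₘ(g⁻¹ * x * g) *ᵥ (e1 : Fin 2 → F) = e1 := by
      calc ↑ₘ(g⁻¹ * x * g) *ᵥ (e1 : Fin 2 → F) = ↑ₘ(g⁻¹) *ᵥ (↑ₘx *ᵥ (↑ₘg *ᵥ e1)) := by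
            simp only [mulVec_mulVec, Matrix.SpecialLinearGroup.coe_mul, mul_assoc]
        _ = ↑ₘ(g⁻¹) *ᵥ (↑ₘg *ᵥ e1) := by rw [hg, hxv]
        _ = e1 := by
            rw [mulVec_mulVec, ← Matrix.SpecialLinearGroup.coe_mul, inv_mul_cancel]
            exact one_mulVec _
    generalize g⁻¹ * x * g = u at huH hu1 hue
    rw [mulVec_e1] at hue
    have hu00 : ↑ₘu 0 0 = 1 := congrFun hue 0
    have hu10 : ↑ₘu 1 0 = 0 := congrFun hue 1
    have hd := det_eq u
    rw [hu00, hu10, mul_zero, sub_zero, one_mul] at hd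
    have hy : ↑ₘu 0 1 ≠ 0 := by
      intro h
      apply hu1
      rw [ext_iff']
      exact ⟨hu00, h, hu10, hd⟩
    have hup : ∀ c : F, up c ∈ H := by
      intro c
      by_cases hc : c = 0
      · have : up c = 1 := by
          rw [hc, ext_iff']
          exact ⟨rfl, rfl, rfl, rfl⟩
        rw [this]
        exact H.one_mem
      have : Fintype F := Fintype.ofFinite F
      obtain ⟨l, hl⟩ := FiniteField.isSquare_of_char_two (ringChar.eq F 2) (c / ↑ₘu 0 1)
      have hl0 : l ≠ 0 := by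
        rintro rfl
        rw [mul_zero, div_eq_zero_iff] at hl
        exact hl.elim hc hy
      obtain ⟨h, hhH, hh⟩ := exists_mem H hH (v := ![l, 0]) (fun h => hl0 (congrFun h 0))
      rw [mulVec_e1] at hh
      have h00 : ↑ₘh 0 0 = l := congrFun hh 0
      have h10 : ↑ₘh 1 0 = 0 := congrFun hh 1
      have hdh := det_eq h
      rw [h00, h10, mul_zero, sub_zero] at hdh
      have h5 : up c * h = h * u := by
        rw [ext_iff']
        simp only [up_val, Matrix.SpecialLinearGroup.coe_mul, Matrix.mul_apply, Fin.sum_univ_two, of_apply,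
          cons_val', cons_val_zero, cons_val_one, cons_val_fin_one, h00, h10, hu00, hu10, hd]
        refine ⟨by ring, ?_, by ring, by ring⟩
        rw [div_eq_iff hy] at hl
        rw [hl]
        linear_combination (↑ₘu 0 1 * l) * hdh
      have h6 : up c = h * u * h⁻¹ := by
        rw [← h5, mul_inv_cancel_right]
      rw [h6]
      exact H.mul_mem (H.mul_mem hhH huH) (H.inv_mem hhH)
    have hlow : ∀ c : F, low c ∈ H := by
      intro c
      obtain ⟨g, hgH, hg⟩ := exists_mem H hH (v := ![0, 1]) (fun h => one_ne_zero (congrFun h 1))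
      rw [mulVec_e1] at hg
      have h00 : ↑ₘg 0 0 = 0 := congrFun hg 0
      have h10 : ↑ₘg 1 0 = 1 := congrFun hg 1
      have hdg := det_eq g
      rw [h00, h10, zero_mul, mul_one, zero_sub] at hdg
      have h5 : low c * g = g * up (-c) := by
        rw [ext_iff']
        simp only [up_val, low_val, Matrix.SpecialLinearGroup.coe_mul, Matrix.mul_apply, Fin.sum_univ_two, of_apply,
          cons_val', cons_val_zero, cons_val_one, cons_val_fin_one, h00, h10]
        refine ⟨by ring, by ring, by ring, ?_⟩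
        linear_combination (-c) * hdg
      have h6 : low c = g * up (-c) * g⁻¹ := by
        rw [← h5, mul_inv_cancel_right]
      rw [h6]
      exact H.mul_mem (H.mul_mem hgH (hup _)) (H.inv_mem hgH)
    exact eq_top_of H hup hlow

end Cfsg.Agent.Omega.NO3S.ThmB.End.SLIdx

end

section


/-!
# THEOREM B, (B2): the end, natural case

`P'` natural, `W = ⟨Z^P⟩` a sum of natural `SL₂(F₀)`-modules for `P`, `4 ≤ |F₀|`, `N_P(S)` transitive on `Z#`:
impossible.

`c := [V, B]`, `N := N_P(c)`: `P = S N` (`Fam.dec`), so `N` induces `SL₂(F₀)` on every summand of `W`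
(`NatIdx.main`) and `N ∩ S` all upper unitriangular matrices.  `K_B`, the product of the other groups `[V, B']`, does not
contain `W`, so it intersects a summand trivially (`Nb.exists_summand`), and `N ∩ S` is not cyclic on `c`
(`Nb.b2`), contrary to `cyc`.
-/

set_option autoImplicit false

namespace Cfsg.Agent.Omega.NO3S.ThmB

open Subgroup Cfsg Cfsg.Agent.ZN Cfsg.Agent.ZN.ChoiceBase Cfsg.Agent.ZN.ChoiceSit
open Cfsg.Agent.Omega.FFThm Cfsg.Agent.Omega.NatPair Cfsg.Agent.Lib.SL2Mat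

universe u

variable {G : Type u} [Group G]

namespace Fam

variable {S P P' U V J : Subgroup G} {DD : Set (Subgroup G)} (F : Fam S P P' U V J DD)
variable {Z : Subgroup G} (T : TrHyp S P P' U V DD Z)

include F T

/-- `[V, B]^g = [V, B^g]` -/
theorem cj_com {g : G} (hg : g ∈ P) {B : Subgroup G} (hB : Fr V DD B) : cj g ⁅V, B⁆ = ⁅V, cj g B⁆ := by
  rw [F.conj_commutator hB hg, F.commutator_eq (F.step4 T hg hB)]

/-- `P = S N_P([V, B])` -/
theorem dec {B : Subgroup G} (hB : Fr V DD B) {g : G} (hg : g ∈ P) :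
    ∃ s ∈ S, ∃ x ∈ P ⊓ normalizer ((⁅V, B⁆ : Subgroup G) : Set G), g = s * x := by
  obtain ⟨s, hs, e⟩ := T.orb B hB (cj g B) (F.step4 T hg hB)
  refine ⟨s, hs, s⁻¹ * g, mem_inf.2 ⟨mul_mem (inv_mem (F.SP hs)) hg, ?_⟩, by group⟩
  rw [mem_normalizer_iff_cj, ← cj_cj, F.cj_com T hg hB, ← e, cj_inv_cj]

/-- `N_P([V, B])` normalises `K_B` -/
theorem N_le_KB {B : Subgroup G} (hB : Fr V DD B) :
    P ⊓ normalizer ((⁅V, B⁆ : Subgroup G) : Set G) ≤ normalizer (KB V DD B : Set G) := by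
  have key : ∀ x ∈ P ⊓ normalizer ((⁅V, B⁆ : Subgroup G) : Set G), cj x (KB V DD B) ≤ KB V DD B := fun x hx => by
    have h1 := F.cj_KB T hx.1 hB
    have h2 : ⁅V, cj x B⁆ = ⁅V, B⁆ := by
      rw [← F.cj_com T hx.1 hB, mem_normalizer_iff_cj.1 hx.2]
    rwa [KB_congr h2] at h1
  intro x hx
  rw [mem_normalizer_iff_cj]
  refine le_antisymm (key x hx) ?_
  have h2 := cj_mono x (key x⁻¹ (inv_mem hx))
  rwa [cj_cj_inv] at h2

omit T in
/-- An element which centralises `[V, B]` and normalises `K_B` moves `M1` inside `K_B`. -/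
theorem mod_KB {B : Subgroup G} (hB : Fr V DD B) {x : G} (hx : x ∈ normalizer (KB V DD B : Set G))
    (hc : ∀ a ∈ ⁅V, B⁆, x * a = a * x) {w : G} (hw : w ∈ M1 V DD) : x * w * x⁻¹ * w⁻¹ ∈ KB V DD B := by
  obtain ⟨a, ha, b, hb, rfl⟩ := F.M1_dec hB hw
  have h1 : x * b * x⁻¹ ∈ KB V DD B := (mem_normalizer_iff.1 hx b).1 hb
  have h2 : x * b * x⁻¹ * b⁻¹ ∈ KB V DD B := mul_mem h1 (inv_mem hb)
  have h3 := F.comm (F.VU (F.com_le hB ha)) (F.VU (F.KB_le B h2))
  have e : x * (a * b) * x⁻¹ * (a * b)⁻¹ = x * b * x⁻¹ * b⁻¹ := by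
    calc x * (a * b) * x⁻¹ * (a * b)⁻¹ = (x * a) * b * x⁻¹ * b⁻¹ * a⁻¹ := by group
      _ = (a * x) * b * x⁻¹ * b⁻¹ * a⁻¹ := by rw [hc a ha]
      _ = a * (x * b * x⁻¹ * b⁻¹) * a⁻¹ := by group
      _ = x * b * x⁻¹ * b⁻¹ := by rw [h3]; group
  rw [e]
  exact h2

/-- `S`-conjugates: a subgroup normalised by `S` and contained in `K_B` is contained in all `K_{B'}`. -/
theorem le_KB {B : Subgroup G} (hB : Fr V DD B) {W : Subgroup G} (hW : S ≤ normalizer (W : Set G))
    (h : W ≤ KB V DD B) {B' : Subgroup G} (hB' : Fr V DD B') : W ≤ KB V DD B' := by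
  obtain ⟨s, hs, e⟩ := T.orb B hB B' hB'
  have h1 := F.cj_KB T (F.SP hs) hB
  have h2 : ⁅V, cj s B⁆ = ⁅V, B'⁆ := by rw [← F.cj_com T (F.SP hs) hB, e]
  rw [KB_congr h2] at h1
  have h3 := cj_mono s h
  rw [cj_eq_of_mem_normalizer (hW hs)] at h3
  exact h3.trans h1

end Fam

namespace Nb

variable [Finite G] {F : Type} [Field F] [Finite F] [CharP F 2] {S P P' V D U L : Subgroup G} {k : ℕ}
  {M : NatKM F S P' V D k} (h : Nb M) {AA : Set (Subgroup G)} (X : BSit S P P' U V L AA)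

include h X

/-- `K_B` has trivial component at the index of `B`. -/
theorem KB_zero {B : Subgroup G} (hB : Fr V (DM U AA) B) {i : Fin k} (O : One M U B i) {x : G}
    (hx : x ∈ KB V (DM U AA) B) : M.e x i = 0 := by
  have hle := (h.fam X).KB_le B
  have hx' := hx
  rw [KB] at hx'
  induction hx' using closure_induction with
  | mem x hx' =>
    obtain ⟨B', hB', hne, hx'⟩ := hx'
    obtain ⟨j, O'⟩ := h.one X hB'
    have hji : i ≠ j := by
      rintro rfl
      exact hne (le_antisymm (h.comm_eq_of_idx (X.le _ hB'.1.1) (X.le _ hB.1.1) O' O)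
        (h.comm_eq_of_idx (X.le _ hB.1.1) (X.le _ hB'.1.1) O O'))
    exact (h.e_comm (X.le _ hB'.1.1) O' hx').2.1 i hji
  | one => rw [e_one]; rfl
  | mul x y hx1 hy1 ihx ihy =>
    rw [M.mul x (hle hx1) y (hle hy1), Pi.add_apply, ihx hx1, ihy hy1, add_zero]
  | inv x hx1 ih => rw [h.e_inv (hle hx1), ih hx1]

/-- `KK` centralises `D` -/
theorem D_le_CK : D ≤ CK P' V (DM U AA) := by
  intro d hd
  have h1 : ∀ y ∈ P', ∀ B, Fr V (DM U AA) B → ∀ b ∈ B, y * b * y⁻¹ * d = d * (y * b * y⁻¹) := by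
    intro y hy B hB b hb
    obtain ⟨i, O⟩ := h.one X hB
    obtain ⟨β, hβ⟩ := O.act b hb
    have h2 := hβ.2 _ (conj_mem' h.DP' hy hd)
    calc y * b * y⁻¹ * d = y * (b * (y⁻¹ * d * y)) * y⁻¹ := by group
      _ = y * (y⁻¹ * d * y * b) * y⁻¹ := by rw [h2]
      _ = d * (y * b * y⁻¹) := by group
  have hK1 : K1 P' V (DM U AA) ≤ P' := by
    rw [K1, closure_le]
    rintro x ⟨B, hB, y, hy, hx⟩
    obtain ⟨b, hb, rfl⟩ := exists_of_mem_cj hx
    exact mul_mem (mul_mem hy (h.SP' (X.le _ hB.1.1 hb))) (inv_mem hy)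
  have h2 : KK P' V (DM U AA) ≤ centralizer ({d} : Set G) := by
    rw [KK, closure_le]
    rintro x ⟨B, hB, y, hy, hx⟩
    obtain ⟨b, hb, rfl⟩ := exists_of_mem_cj hx
    rw [SetLike.mem_coe, mem_centralizer_iff]
    intro z hz
    rw [Set.mem_singleton_iff] at hz
    rw [hz]
    exact (h1 y (hK1 hy) B hB b hb).symm
  exact mem_centralizer_iff.2 fun x hx => (mem_centralizer_iff.1 (h2 hx) d rfl).symm

variable {Z : Subgroup G} (T : TrHyp S P P' U V (DM U AA) Z)
variable {F0 : Type} [Field F0] [Finite F0] [CharP F0 2] {W D0 : Subgroup G} {k0 : ℕ} (N : NatK F0 S P W D0 k0)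

include T

omit [Finite F0] [CharP F0 2] in
/-- a summand of `W` which intersects `K_B` trivially -/
theorem exists_summand (hD0 : D0 = ⊥) (hWP : P ≤ normalizer (W : Set G)) (hZW : Z ≤ W)
    {B : Subgroup G} (hB : Fr V (DM U AA) B)
    (hN : ∀ i (A : Matrix.SpecialLinearGroup (Fin 2) F0), ∃ x ∈ P ⊓ normalizer ((⁅V, B⁆ : Subgroup G) : Set G),
      ActsSL N.e W D0 x (Pi.mulSingle i A)) :
    ∃ i, ∀ w ∈ W, (∀ l, l ≠ i → N.e w l = 0) → w ∈ KB V (DM U AA) B → w = 1 := by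
  by_contra hcon
  push Not at hcon
  have Fm := h.fam X
  have e1 : N.e 1 = 0 := Cfsg.Agent.Omega.NO3S.ThmB.e_one N
  -- every summand is contained in `K_B`
  have h1 : ∀ i, ∀ w ∈ W, (∀ l, l ≠ i → N.e w l = 0) → w ∈ KB V (DM U AA) B := by
    intro i w hw hwl
    obtain ⟨w0, hw0, hw0l, hw0K, hw01⟩ := hcon i
    by_cases h0 : N.e w i = 0
    · have h2 : N.e w = 0 := by
        funext l
        by_cases hl : l = i
        · rw [hl, h0]; rfl
        · rw [hwl l hl]; rfl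
      have h3 := (N.ker w hw).1 h2
      rw [hD0, mem_bot] at h3
      rw [h3]; exact one_mem _
    · have h00 : N.e w0 i ≠ 0 := fun h00 => hw01 (by
        have h2 : N.e w0 = 0 := by
          funext l
          by_cases hl : l = i
          · rw [hl, h00]; rfl
          · rw [hw0l l hl]; rfl
        have h3 := (N.ker w0 hw0).1 h2
        rwa [hD0, mem_bot] at h3)
      obtain ⟨A, hA⟩ : ∃ A : Matrix.SpecialLinearGroup (Fin 2) F0, ap A (N.e w0 i) = N.e w i := by
        obtain ⟨A1, hA1⟩ := exists_ap_e h00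
        obtain ⟨A2, hA2⟩ := exists_ap_e h0
        exact ⟨A2 * A1⁻¹, by rw [ap_mul, ← hA1, ap_inv_ap, hA2]⟩
      obtain ⟨x, hx, hxA⟩ := hN i A
      have hxw : x * w0 * x⁻¹ ∈ W := conj_mem hWP hx.1 hw0
      have h2 : x * w0 * x⁻¹ = w := by
        refine Cfsg.Agent.Omega.NO3S.ThmB.e_inj N hD0 hxw hw ?_
        funext l
        rw [hxA.1 w0 hw0 l]
        by_cases hl : l = i
        · rw [hl, Pi.mulSingle_eq_same, hA]
        · rw [Pi.mulSingle_eq_of_ne hl, ap_one, hw0l l hl, hwl l hl]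
      rw [← h2]
      exact (mem_normalizer_iff.1 (Fm.N_le_KB T hB hx) w0).1 hw0K
  -- so `W` is contained in `K_B`
  have h2 : W ≤ KB V (DM U AA) B := by
    classical
    have key : ∀ (s : Finset (Fin k0)) (w : G), w ∈ W → (∀ l, l ∉ s → N.e w l = 0) → w ∈ KB V (DM U AA) B := by
      intro s
      induction s using Finset.induction_on with
      | empty =>
        intro w hw hwl
        have h3 : N.e w = 0 := by
          funext l
          rw [hwl l (Finset.notMem_empty l)]; rfl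
        have h4 := (N.ker w hw).1 h3
        rw [hD0, mem_bot] at h4
        rw [h4]; exact one_mem _
      | insert a s has ih =>
        intro w hw hwl
        obtain ⟨w', hw', he⟩ := N.surj (Pi.single a (N.e w a))
        have h3 := h1 a w' hw' fun l hl => by rw [he, Pi.single_eq_of_ne hl]
        have h4 := ih (w * w'⁻¹) (mul_mem hw (inv_mem hw')) fun l hl => by
          rw [N.mul w hw _ (inv_mem hw'), Cfsg.Agent.Omega.NO3S.ThmB.e_inv N hw', he, Pi.add_apply, Pi.neg_apply]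
          by_cases hla : l = a
          · rw [hla, Pi.single_eq_same, add_neg_cancel]
          · rw [Pi.single_eq_of_ne hla, neg_zero, add_zero]
            exact hwl l (by simp [hla, hl])
        have h5 := mul_mem h4 h3
        rwa [inv_mul_cancel_right] at h5
    intro w hw
    exact key Finset.univ w hw fun l hl => absurd (Finset.mem_univ l) hl
  -- contradiction
  obtain ⟨z, hz, hzC⟩ := T.mv
  apply hzC
  refine h.D_le_CK X ?_
  have hzK : ∀ B', Fr V (DM U AA) B' → z ∈ KB V (DM U AA) B' := fun B' hB' =>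
    Fm.le_KB T hB (Fm.SP.trans hWP) h2 hB' (hZW hz)
  rw [← M.ker z (Fm.KB_le B (hzK B hB))]
  funext j
  obtain ⟨i, O⟩ := h.one X hB
  obtain ⟨s, hs, hB', O'⟩ := h.exists_idx X hB O j
  exact h.KB_zero X hB' O' (hzK _ hB')

omit X T h [Finite G] [Finite F] [CharP F 2] [Finite F0] in
/-- powers of an upper unitriangular element -/
theorem zpow_acts (hWP : P ≤ normalizer (W : Set G)) {s : G} (hs : s ∈ P) {i : Fin k0} {β : F0}
    (hA : ActsSL N.e W D0 s (Pi.mulSingle i (up β))) (n : ℤ) :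
    ∃ γ, (γ = 0 ∨ γ = β) ∧ ActsSL N.e W D0 (s ^ n) (Pi.mulSingle i (up γ)) := by
  have hββ : β + β = 0 := CharTwo.add_self_eq_zero β
  have hmul : ∀ a b : F0, (Pi.mulSingle i (up a) * Pi.mulSingle i (up b) :
      Fin k0 → Matrix.SpecialLinearGroup (Fin 2) F0) = Pi.mulSingle i (up (a + b)) := fun a b => by
    rw [← Pi.mulSingle_mul, up_mul]
  induction n using Int.induction_on with
  | zero =>
    refine ⟨0, Or.inl rfl, ?_⟩
    rw [zpow_zero, up_zero]
    have h1 : (Pi.mulSingle i (1 : Matrix.SpecialLinearGroup (Fin 2) F0) : Fin k0 → _) = 1 := Pi.mulSingle_one i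
    rw [h1]
    exact End.NatIdx.acts_one
  | succ n ih =>
    obtain ⟨γ, hγ, h1⟩ := ih
    have h2 := End.NatIdx.acts_mul hWP hs h1 hA
    rw [hmul] at h2
    refine ⟨γ + β, ?_, ?_⟩
    · rcases hγ with rfl | rfl
      · exact Or.inr (zero_add _)
      · exact Or.inl hββ
    · rwa [zpow_add_one]
  | pred n ih =>
    obtain ⟨γ, hγ, h1⟩ := ih
    have h2 := End.NatIdx.acts_mul hWP (inv_mem hs) h1 (End.NatIdx.acts_inv hWP hs hA)
    rw [← Pi.mulSingle_inv, up_inv, hmul] at h2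
    refine ⟨γ + -β, ?_, ?_⟩
    · rw [CharTwo.neg_eq]
      rcases hγ with rfl | rfl
      · exact Or.inr (zero_add _)
      · exact Or.inl hββ
    · rwa [zpow_sub_one]

include N in
/-- **(B2), natural modules, `4 ≤ |F₀|`.** -/
theorem b2 (h4 : 4 ≤ Nat.card F0) (hS : Syl S P) (hWP : P ≤ normalizer (W : Set G)) (hD0 : D0 = ⊥) (hZW : Z ≤ W)
    (gen : ∀ K : Subgroup G, Z ≤ K → P ≤ normalizer (K : Set G) → W ≤ K)
    {B : Subgroup G} (hB : Fr V (DM U AA) B)
    (cyc : ∀ s ∈ S, s ∈ normalizer ((⁅V, B⁆ : Subgroup G) : Set G) → ∀ s' ∈ S,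
      s' ∈ normalizer ((⁅V, B⁆ : Subgroup G) : Set G) →
      (∃ n : ℤ, ∀ x ∈ ⁅V, B⁆, s * x * s⁻¹ = s' ^ n * x * (s' ^ n)⁻¹) ∨
        ∃ n : ℤ, ∀ x ∈ ⁅V, B⁆, s' * x * s'⁻¹ = s ^ n * x * (s ^ n)⁻¹) : False := by
  have Fm := h.fam X
  have hDP : P ≤ normalizer (D0 : Set G) := by
    rw [hD0]
    intro g _
    rw [mem_normalizer_iff_cj]
    exact le_antisymm (cj_le_iff.2 bot_le) bot_le
  have hWM : W ≤ M1 V (DM U AA) := gen _ (Fm.Z_le_M1 T) (Fm.M1_norm T)
  have hmain := fun i => End.NatIdx.main N hWP hDP hS (H := P ⊓ normalizer ((⁅V, B⁆ : Subgroup G) : Set G))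
    inf_le_left (fun g hg => Fm.dec T hB hg) (fun K t => End.SLIdx.eq_top h4 K) i
  obtain ⟨i, hi⟩ := h.exists_summand X T N hD0 hWP hZW hB fun i => (hmain i).1
  -- an element of `S ∩ N` which centralises `[V, B]` is trivial on the summand
  have key : ∀ (t : G), t ∈ S → t ∈ normalizer ((⁅V, B⁆ : Subgroup G) : Set G) → ∀ γ : F0,
      ActsSL N.e W D0 t (Pi.mulSingle i (up γ)) → (∀ a ∈ ⁅V, B⁆, t * a = a * t) → γ = 0 := by
    intro t ht htc γ hA hc
    obtain ⟨w, hw, he⟩ := N.surj (Pi.single i ![0, 1])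
    have h1 := Fm.mod_KB hB (Fm.N_le_KB T hB ⟨Fm.SP ht, htc⟩) hc (hWM hw)
    have htw : t * w * t⁻¹ ∈ W := conj_mem hWP (Fm.SP ht) hw
    have h2 := hi _ (mul_mem htw (inv_mem hw)) (fun l hl => by
      rw [N.mul _ htw _ (inv_mem hw), Cfsg.Agent.Omega.NO3S.ThmB.e_inv N hw, Pi.add_apply, Pi.neg_apply,
        hA.1 w hw l, Pi.mulSingle_eq_of_ne hl, ap_one, add_neg_cancel]) h1
    have h3 : t * w * t⁻¹ = w := mul_inv_eq_one.1 h2
    have h4 := congrFun (hA.1 w hw i) 0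
    rw [h3, Pi.mulSingle_eq_same, he, Pi.single_eq_same, ap_up_0] at h4
    simpa using h4.symm
  -- two elements
  obtain ⟨β, hβ0, hβ1⟩ : ∃ β : F0, β ≠ 0 ∧ β ≠ 1 := by
    by_contra hcon
    push Not at hcon
    have : Nat.card F0 ≤ 2 := by
      have h1 : Function.Surjective (fun b : Bool => if b then (1 : F0) else 0) := fun x => by
        by_cases hx : x = 0
        · exact ⟨false, by simp [hx]⟩
        · exact ⟨true, by simp [hcon x hx]⟩
      have h2 := Nat.card_le_card_of_surjective _ h1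
      simpa using h2
    omega
  have pair : ∀ s ∈ S, s ∈ normalizer ((⁅V, B⁆ : Subgroup G) : Set G) → ∀ s' ∈ S,
      s' ∈ normalizer ((⁅V, B⁆ : Subgroup G) : Set G) → ∀ b b' : F0, ActsSL N.e W D0 s (Pi.mulSingle i (up b)) →
      ActsSL N.e W D0 s' (Pi.mulSingle i (up b')) →
      (∃ n : ℤ, ∀ x ∈ ⁅V, B⁆, s * x * s⁻¹ = s' ^ n * x * (s' ^ n)⁻¹) → b = 0 ∨ b = b' := by
    intro s hs hsc s' hs' hsc' b b' hb hb' ⟨n, hn⟩
    obtain ⟨γ, hγ, h1⟩ := zpow_acts N hWP (Fm.SP hs') hb' n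
    have hsn : s' ^ n ∈ S := zpow_mem hs' n
    have h2 := End.NatIdx.acts_mul hWP (Fm.SP hs) (End.NatIdx.acts_inv hWP (Fm.SP hsn) h1) hb
    rw [← Pi.mulSingle_inv, ← Pi.mulSingle_mul, up_inv, up_mul] at h2
    have h3 := key _ (mul_mem (inv_mem hsn) hs) (mul_mem (inv_mem (zpow_mem hsc' n)) hsc) _ h2 fun a ha => by
      have h4 := hn a ha
      calc (s' ^ n)⁻¹ * s * a = (s' ^ n)⁻¹ * (s * a * s⁻¹) * s := by group
        _ = (s' ^ n)⁻¹ * (s' ^ n * a * (s' ^ n)⁻¹) * s := by rw [h4]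
        _ = a * ((s' ^ n)⁻¹ * s) := by group
    rw [CharTwo.neg_eq] at h3
    have h4 : b = γ := (CharTwo.add_eq_zero.1 h3).symm
    rw [h4]
    rcases hγ with rfl | rfl
    · exact Or.inl rfl
    · exact Or.inr rfl
  obtain ⟨s, hs, hsN, hsA⟩ := (hmain i).2 1
  obtain ⟨s', hs', hsN', hsA'⟩ := (hmain i).2 β
  rcases cyc s hs hsN.2 s' hs' hsN'.2 with h1 | h1
  · rcases pair s hs hsN.2 s' hs' hsN'.2 1 β hsA hsA' h1 with h2 | h2
    · exact one_ne_zero h2
    · exact hβ1 h2.symm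
  · rcases pair s' hs' hsN'.2 s hs hsN.2 β 1 hsA' hsA h1 with h2 | h2
    · exact hβ0 h2
    · exact hβ1 h2

end Nb

end Cfsg.Agent.Omega.NO3S.ThmB

end
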